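import Mathlib
import Cfsg.Agent.GpExc.Rank
import Cfsg.Agent.GpExc.Tab
import Cfsg.Agent.H107.NB.OrthTor_m3
import Cfsg.Agent.H472.ComRed
import Cfsg.Agent.ChevFast.E6
import Cfsg.Agent.ChevFast.E7
import Cfsg.Agent.ChevFast.E8
import Cfsg.Agent.ChevFast.F4
import Cfsg.Agent.ChevFast.Lin
import Cfsg.Agent.FastGrp
import Cfsg.Agent.Prune
set_option linter.all false
prune_inst 0x7f00000000000000000000000000000000000000000000000000000000000000000000000000000000000000000000000000000000000000000000000000000000000000000000000000000000000000003fffffffffffffffffffffffffffbeffbdffffffff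
open scoped Cfsg.Agent.FastGrp

-- part: H486/NB/SL
section
/-!
# Elements of odd prime order of `SL₂(K)`, any characteristic (helper486; task 2476 of helper718)

Generalisation of `GpExc.SL2` (helper75, characteristic two).

* `dg c` = `diag (c, c⁻¹)` as a product of elementary matrices;
* `exists_conj` : `g ∈ SL₂(K)` of odd prime order `p ≠ char K`, `K ∋` primitive `p`-th root of unity ⟹ `g` is
  conjugate to `dg c`, `c ^ p = 1`, `c ≠ 1`.
-/

set_option autoImplicit false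

namespace Cfsg.Agent.H486.NB.SL

open Matrix Cfsg.Agent.ChevalleyStructure.SL2Hom
open Cfsg.Agent.GpExc.SL2 (exists_root exists_col)

variable {K : Type*} [Field K]

/-- `diag (c, c⁻¹)` as a product of elementary matrices -/
def dg (c : K) : SpecialLinearGroup (Fin 2) K :=
  (up c * lo (-c⁻¹) * up c) * (up (-1) * lo (-(-1 : K)⁻¹) * up (-1))

theorem coe_dg {c : K} (hc : c ≠ 0) :
    ((dg c : SpecialLinearGroup (Fin 2) K) : Matrix (Fin 2) (Fin 2) K) = !![c, 0; 0, c⁻¹] := by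
  show !![(1 : K), c; 0, 1] * !![1, 0; -c⁻¹, 1] * !![1, c; 0, 1] *
    (!![1, -1; 0, 1] * !![1, 0; -(-1 : K)⁻¹, 1] * !![1, -1; 0, 1]) = !![c, 0; 0, c⁻¹]
  ext i j
  fin_cases i <;> fin_cases j <;>
    simp [Matrix.mul_apply, Fin.sum_univ_two, hc]

theorem up_nsmul (s : K) (n : ℕ) : (up s) ^ n = up (n * s) := by
  induction n with
  | zero =>
    rw [pow_zero]
    apply Subtype.ext
    ext i j
    fin_cases i <;> fin_cases j <;> simp [up]
  | succ n ih =>
    rw [pow_succ, ih]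
    apply Subtype.ext
    show !![(1 : K), (n : K) * s; 0, 1] * !![1, s; 0, 1] = !![(1 : K), ((n + 1 : ℕ) : K) * s; 0, 1]
    ext i j
    fin_cases i <;> fin_cases j <;> simp [Matrix.mul_apply, Fin.sum_univ_two]
    ring

/-- **Elements of odd prime order are diagonalizable.** -/
theorem exists_conj {p : ℕ} (hp : p.Prime) (hp2 : p ≠ 2) (hpK : (p : K) ≠ 0) {ζ : K} (hζ : IsPrimitiveRoot ζ p)
    {g : SpecialLinearGroup (Fin 2) K} (hg : g ^ p = 1) (hg1 : g ≠ 1) :
    ∃ (k : SpecialLinearGroup (Fin 2) K) (c : K), c ≠ 0 ∧ c ^ p = 1 ∧ c ≠ 1 ∧ k * g * k⁻¹ = dg c := by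
  have hodd : Odd p := hp.odd_of_ne_two hp2
  have hgm : (g : Matrix (Fin 2) (Fin 2) K) ^ p = 1 := by
    rw [← Matrix.SpecialLinearGroup.coe_pow, hg, Matrix.SpecialLinearGroup.coe_one]
  obtain ⟨c, hc, hdet⟩ := exists_root hp.pos hζ hgm
  have hc0 : c ≠ 0 := by
    rintro rfl
    rw [zero_pow hp.ne_zero] at hc
    exact zero_ne_one hc
  obtain ⟨v, hv, hgv⟩ := Matrix.exists_mulVec_eq_zero_iff.2 hdet
  have hgv' : (g : Matrix (Fin 2) (Fin 2) K) *ᵥ v = c • v := by
    rw [Matrix.sub_mulVec, Matrix.smul_mulVec, Matrix.one_mulVec, sub_eq_zero] at hgv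
    exact hgv
  obtain ⟨k, hk⟩ := exists_col hv
  -- `k⁻¹ g k` is upper triangular
  set m := k⁻¹ * g * k with hm
  have hkm : k * m = g * k := by rw [hm]; group
  have hcol : ∀ i, (k : Matrix (Fin 2) (Fin 2) K) i 0 * (m : Matrix (Fin 2) (Fin 2) K) 0 0 +
      (k : Matrix (Fin 2) (Fin 2) K) i 1 * (m : Matrix (Fin 2) (Fin 2) K) 1 0 = c * v i := by
    intro i
    have h3 := congrFun (congrFun (congrArg (fun z : SpecialLinearGroup (Fin 2) K => (z : Matrix (Fin 2) (Fin 2) K)) hkm)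
      i) 0
    simp only [Matrix.SpecialLinearGroup.coe_mul, Matrix.mul_apply, Fin.sum_univ_two] at h3
    rw [h3, hk 0, hk 1]
    have h4 := congrFun hgv' i
    rw [Matrix.mulVec, dotProduct, Fin.sum_univ_two] at h4
    simpa using h4
  have hdk : (k : Matrix (Fin 2) (Fin 2) K) 0 0 * (k : Matrix (Fin 2) (Fin 2) K) 1 1 -
      (k : Matrix (Fin 2) (Fin 2) K) 0 1 * (k : Matrix (Fin 2) (Fin 2) K) 1 0 = 1 := by
    rw [← Matrix.det_fin_two]; exact k.2
  have e0 := hcol 0
  have e1 := hcol 1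
  rw [← hk 0] at e0
  rw [← hk 1] at e1
  set k00 := (k : Matrix (Fin 2) (Fin 2) K) 0 0
  set k01 := (k : Matrix (Fin 2) (Fin 2) K) 0 1
  set k10 := (k : Matrix (Fin 2) (Fin 2) K) 1 0
  set k11 := (k : Matrix (Fin 2) (Fin 2) K) 1 1
  have m10 : (m : Matrix (Fin 2) (Fin 2) K) 1 0 = 0 := by
    linear_combination k00 * e1 - k10 * e0 - (m : Matrix (Fin 2) (Fin 2) K) 1 0 * hdk
  have m00 : (m : Matrix (Fin 2) (Fin 2) K) 0 0 = c := by
    linear_combination k11 * e0 - k01 * e1 - ((m : Matrix (Fin 2) (Fin 2) K) 0 0 - c) * hdk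
  have hdm : (m : Matrix (Fin 2) (Fin 2) K) 0 0 * (m : Matrix (Fin 2) (Fin 2) K) 1 1 -
      (m : Matrix (Fin 2) (Fin 2) K) 0 1 * (m : Matrix (Fin 2) (Fin 2) K) 1 0 = 1 := by
    rw [← Matrix.det_fin_two]; exact m.2
  have m11 : (m : Matrix (Fin 2) (Fin 2) K) 1 1 = c⁻¹ := by
    rw [m10, m00, mul_zero, sub_zero] at hdm
    exact eq_inv_of_mul_eq_one_right hdm
  set s := (m : Matrix (Fin 2) (Fin 2) K) 0 1 with hs
  have hmat : (m : Matrix (Fin 2) (Fin 2) K) = !![c, s; 0, c⁻¹] := by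
    ext i j
    fin_cases i <;> fin_cases j
    · exact m00
    · rfl
    · exact m10
    · exact m11
  have hmp : m ^ p = 1 := by
    have h3 : m = k⁻¹ * g * k⁻¹⁻¹ := by rw [hm, inv_inv]
    rw [h3, conj_pow, hg, mul_one, mul_inv_cancel]
  have hc2 : c ^ 2 = 1 → c = 1 := by
    intro h3
    obtain ⟨j, hj⟩ := hodd
    rw [hj, pow_succ, pow_mul, h3, one_pow, one_mul] at hc
    exact hc
  have hc1 : c ≠ 1 := by
    intro h3
    -- then `m = up s`, of order the characteristic
    have h4 : m = up s := by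
      apply Subtype.ext
      rw [hmat, h3, inv_one]
      rfl
    rw [h4, up_nsmul] at hmp
    have h5 := congrArg (fun z : SpecialLinearGroup (Fin 2) K => (z : Matrix (Fin 2) (Fin 2) K) 0 1) hmp
    have h6 : (p : K) * s = 0 := by
      simpa [up] using h5
    have h7 : s = 0 := (mul_eq_zero.1 h6).resolve_left hpK
    apply hg1
    have h8 : m = 1 := by
      rw [h4, h7]
      apply Subtype.ext
      ext i j
      fin_cases i <;> fin_cases j <;> simp [up]
    have h9 : g = k * m * k⁻¹ := by rw [hm]; group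
    rw [h9, h8]; group
  have hcc : c⁻¹ - c ≠ 0 := by
    intro h3
    apply hc1
    apply hc2
    rw [sub_eq_zero] at h3
    rw [pow_two]
    nth_rewrite 1 [← h3]
    exact inv_mul_cancel₀ hc0
  set t : K := -s / (c⁻¹ - c) with ht
  refine ⟨up t * k⁻¹, c, hc0, hc, hc1, ?_⟩
  have h3 : up t * k⁻¹ * g * (up t * k⁻¹)⁻¹ = up t * m * (up t)⁻¹ := by rw [hm]; group
  rw [h3, mul_inv_eq_iff_eq_mul]
  clear_value m
  apply Subtype.ext
  have h4 : t * (c⁻¹ - c) = -s := by rw [ht]; exact div_mul_cancel₀ _ hcc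
  have h5 : ((up t * m : SpecialLinearGroup (Fin 2) K) : Matrix (Fin 2) (Fin 2) K) =
      !![(1 : K), t; 0, 1] * !![c, s; 0, c⁻¹] := by
    rw [Matrix.SpecialLinearGroup.coe_mul, hmat]; rfl
  have h6 : ((dg c * up t : SpecialLinearGroup (Fin 2) K) : Matrix (Fin 2) (Fin 2) K) =
      !![c, 0; 0, c⁻¹] * !![1, t; 0, 1] := by
    rw [Matrix.SpecialLinearGroup.coe_mul, coe_dg hc0]; rfl
  refine h5.trans (Eq.trans ?_ h6.symm)
  ext i j
  fin_cases i <;> fin_cases j
  · simp [Matrix.mul_apply, Fin.sum_univ_two]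
  · simp only [Matrix.mul_apply, Fin.sum_univ_two]
    simp
    linear_combination h4
  · simp [Matrix.mul_apply, Fin.sum_univ_two]
  · simp [Matrix.mul_apply, Fin.sum_univ_two]

end Cfsg.Agent.H486.NB.SL
end

-- part: H486/NB/Cent
section
/-!
# Centralizers of elements of odd prime order in the `SL₂` of the highest root (helper486; task 2476 of helper718)

Generalisation of `GpExc.Cent`, `GpExc.Wit` (helper75) to every characteristic.

* `TD D f k r` : the table checks (`r` the highest root, `k` the node not orthogonal to `r`, `f` the other nodes);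
* `conj_top` : `h_r(c) x_s(t) h_r(c)⁻¹ = x_s(c ^ (s_k) t)`;
* `norm_hG` : `C(h_r(c))` normalises `⟨X b : b_k = 0⟩`, if `c ^ m ≠ 1` for `m = 1, 2`;
* `norm_psi` : for `g ∈ SL₂(F)` of odd prime order `p ≠ char F`, the centralizer of `ψ g`, `ψ : SL₂(F) → D.group F` the
  root `SL₂` of `r`, normalises `HL = ⟨X b : b_k = 0⟩`.
-/

set_option autoImplicit false
set_option linter.unusedSectionVars false

namespace Cfsg.Agent.H486.NB.Cent

open CoxeterSystem Subgroup
open Cfsg Cfsg.Lie Cfsg.Lie.ChevalleyDatum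
open Cfsg.Agent.ChevalleyStructure Cfsg.Agent.ChevalleyStructure.Elts Cfsg.Agent.ChevalleyStructure.CoxeterGeom
  Cfsg.Agent.ChevalleyStructure.RootVec Cfsg.Agent.ChevalleyStructure.RootVecTab
  Cfsg.Agent.ChevalleyStructure.CoxeterGeomTypes Cfsg.Agent.ChevalleyStructure.NPerm
  Cfsg.Agent.ChevalleyStructure.SL2Hom Cfsg.Agent.ChevalleyStructure.SL2Rep
open Cfsg.Agent.Tits.Roots Cfsg.Agent.Nodes.Reps Cfsg.Agent.Nodes.BNOf Cfsg.Agent.Nodes.RGDChev
  Cfsg.Agent.Nodes.Bruhat Cfsg.Agent.Nodes.SubComb Cfsg.Agent.Nodes.Sub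
open Cfsg.Agent.KFacts.RgdPar
open Cfsg.Agent.KFacts.RgdChevCoord (TT XX nc)
open Cfsg.Agent.GenExc Cfsg.Agent.GpExc.Wit
open Cfsg.Agent.GenExc.Chev (mem_XX commOK)
open Cfsg.Agent.GpExc

/-- the table checks -/
structure TD (D : ChevalleyDatum) {l m : ℕ} (f : Fin (m + 1) ↪ Fin l) (k : Fin l) (r : ℕ) : Prop where
  hk : ∀ i, i ∈ [k] ↔ ∀ a, f a ≠ i
  par : ∃ par : Fin (m + 1) → Fin (m + 1), ∀ b, b ≠ 0 → par b < b ∧ cartanOf D l (f (par b)) (f b) ≠ 0
  lt : r < D.nroots
  car : ∀ s < D.nroots, Strings.cartanR D r s = rt D s k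
  uniq : ∀ s < D.nroots, rt D s k = 2 → s = r
  two : rt D r k = 2
  le : ∀ s < D.nroots, -2 ≤ rt D s k ∧ rt D s k ≤ 2

section

variable {D : ChevalleyDatum} {l : ℕ} {M : CoxeterMatrix (Fin l)} (hp : IsType D l M)
  {m : ℕ} {f : Fin (m + 1) ↪ Fin l} {k : Fin l} {r : ℕ}

include hp in
theorem TD.conn (S : TD D f k r) : ∀ T : Set (Fin (m + 1)), T.Nonempty → T ≠ Set.univ →
    ∃ a ∈ T, ∃ b, b ∉ T ∧ M (f a) (f b) ≠ 2 := by
  obtain ⟨par, hpar⟩ := S.par
  exact GenExc.Chev.conn_of_parent (R := fun a b => M (f a) (f b) ≠ 2) (fun a b h => by rwa [M.symmetric]) par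
    (fun b hb => ⟨(hpar b hb).1, GenExc.Chev.ne_two_of_cart hp.isCartan (hpar b hb).2⟩)

include hp in
/-- `h_r(c)` acts on `X_s` as `c ^ (s_k)` -/
theorem TD.conj_top (S : TD D f k r) {K : Type*} [Field K] {c : K} (hc : c ≠ 0) {s : ℕ} (hs : s < D.nroots) (t : K) :
    hG hp.inList r c * xG hp.inList s t * (hG hp.inList r c)⁻¹ = xG hp.inList s (c ^ rt D s k * t) := by
  rw [mul_inv_eq_iff_eq_mul]
  apply Units.ext
  rw [Units.val_mul, Units.val_mul, coe_hG, coe_xG, coe_xG, StringMem.hMat_eq hp.inList S.lt hc]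
  have h1 : Matrix.diagonal (Sum.elim (fun _ => (1 : K)) (fun s : Fin D.nroots => c ^ Strings.cartanR D r s)) =
      TorusConj.torus D K (fun s => rt D s k) c := by
    rw [TorusConj.torus_def]
    congr 1
    funext v
    rcases v with i | s
    · rfl
    · show c ^ Strings.cartanR D r s = c ^ rt D s k
      rw [S.car _ s.2]
  rw [h1]
  exact TorusConj.torus_mul_x hp.checked (TorusConj.isAdditive_rt D (lt_rank hp k)) hc s t hs

variable {K : Type} [Field K]

/-- `h_r(c)` as an element of the group -/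
noncomputable def hh (D : ChevalleyDatum) (K : Type) [Field K] (hp : InList D) (r : ℕ) (c : K) : ↥(D.group K) :=
  ⟨hG hp r c, by
    rw [hG_def, nG_def, nG_def]
    exact mul_mem (mul_mem (xG_mem_group hp _ _) (mul_mem (xG_mem_group hp _ _) (xG_mem_group hp _ _)))
      (mul_mem (xG_mem_group hp _ _) (mul_mem (xG_mem_group hp _ _) (xG_mem_group hp _ _)))⟩

variable {W : Type*} [Group W] (cs : CoxeterSystem M W)

include hp in
theorem TD.norm_hG (S : TD D f k r) [Finite K] (p : ℕ) [Fact p.Prime] [CharP K p] {c : K} (hc0 : c ≠ 0) (hc1 : c ≠ 1)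
    (hc2 : c ^ 2 ≠ 1) {g : ↥(D.group K)} (hg : g * hh D K hp.inList r c = hh D K hp.inList r c * g) :
    ∀ u ∈ RGD.Sup (XX D l K) {b | IsRoot cs hp.isCartan b ∧ b k = 0}, g * u * g⁻¹ ∈
      RGD.Sup (XX D l K) {b | IsRoot cs hp.isCartan b ∧ b k = 0} := by
  have : Finite W := finite_W hp cs
  have hcm : ∀ m : ℤ, m ≠ 0 → -2 ≤ m → m ≤ 2 → c ^ m ≠ 1 := by
    intro m hm h3 h4
    have h5 : m = 1 ∨ m = -1 ∨ m = 2 ∨ m = -2 := by omega
    rcases h5 with rfl | rfl | rfl | rfl
    · rwa [zpow_one]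
    · rw [zpow_neg, zpow_one]
      intro h6
      exact hc1 (inv_eq_one.1 h6)
    · exact_mod_cast hc2
    · rw [zpow_neg]
      intro h6
      exact hc2 (by exact_mod_cast inv_eq_one.1 h6)
  refine GpExc.Cent.conj_mem_sup (rgd (K := K) hp cs p) (S := {hh D K hp.inList r c}) ?_ (fun x hx => hx.1) ?_ ?_
    (by rw [KFacts.RgdRigid.GG_eq_top (G1_eq_top hp cs)]; exact mem_top _)
    (by rw [mem_centralizer_singleton_iff]; exact hg)
  · rintro _ rfl
    rw [SetLike.mem_coe, mem_subgroupOf]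
    exact hG_mem_diagonal hp.inList S.lt hc0
  · rintro x ⟨hx, hx0⟩ z hz
    obtain ⟨s, hs, rfl⟩ := (isRoot_iff hp cs x).1 hx
    obtain ⟨t, ht⟩ := (mem_XX hp K hs).1 hz
    rw [mem_centralizer_singleton_iff]
    apply Subtype.ext
    rw [coe_mul, coe_mul, ht]
    have h1 := S.conj_top hp hc0 hs t
    have h2 : rt D s k = 0 := hx0
    rw [h2, zpow_zero, one_mul, mul_inv_eq_iff_eq_mul] at h1
    exact h1.symm
  · intro x hx hx0
    obtain ⟨s, hs, rfl⟩ := (isRoot_iff hp cs x).1 hx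
    rw [eq_bot_iff]
    intro z hzz
    obtain ⟨hz, hz'⟩ := mem_inf.1 hzz
    obtain ⟨t, ht⟩ := (mem_XX hp K hs).1 hz
    rw [mem_centralizer_singleton_iff] at hz'
    have h1 := S.conj_top hp hc0 hs t
    have h2 := congrArg Subtype.val hz'
    rw [coe_mul, coe_mul, ht] at h2
    change xG hp.inList s t * hG hp.inList r c = hG hp.inList r c * xG hp.inList s t at h2
    rw [← h2, mul_inv_cancel_right] at h1
    have h3 := xG_injective hp.inList hs h1
    rw [mem_bot]
    have hm : rt D s k ≠ 0 := fun h4 => hx0 ⟨hx, h4⟩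
    have h5 := hcm _ hm (S.le s hs).1 (S.le s hs).2
    have h6 : t = 0 := by
      by_contra h7
      apply h5
      have h8 : (1 : K) * t = c ^ rt D s k * t := by rw [one_mul]; exact h3
      exact (mul_right_cancel₀ h7 h8).symm
    apply Subtype.ext
    rw [ht, h6, xG_zero]
    rfl

include hp in
/-- the root groups of `r`, `-r` centralise `⟨X b : b_k = 0⟩` -/
theorem TD.comm_top (S : TD D f k r) {b : Fin l → ℤ} (hb : IsRoot cs hp.isCartan b) (hb0 : b k = 0)
    {z : ↥(D.group K)} (hz : z ∈ XX D l K b) {u : ↥(D.group K)}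
    (hu : u ∈ XX D l K (vec D l r) ∨ u ∈ XX D l K (-vec D l r)) : z * u = u * z := by
  have : Finite W := finite_W hp cs
  have hr := isRoot_vec hp cs S.lt
  have h2 : (vec D l r) k = 2 := S.two
  have key : ∀ y : Fin l → ℤ, IsRoot cs hp.isCartan y → y k = 2 → y = vec D l r := by
    intro y hy hyk
    obtain ⟨s, hs, rfl⟩ := (isRoot_iff hp cs y).1 hy
    rw [S.uniq s hs hyk]
  have hb00 : b ≠ 0 := by
    obtain ⟨s, hs, rfl⟩ := (isRoot_iff hp cs b).1 hb
    exact GenExc.vec_ne_zero hp hs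
  rcases hu with hu | hu
  · refine commOK hp (K := K) cs b (vec D l r) hb hr ?_ ?_ z hz u hu
    · intro h3
      rw [h3, Pi.neg_apply, h2] at hb0
      omega
    · intro h3
      have h4 := key _ h3 (by rw [Pi.add_apply, hb0, h2]; norm_num)
      exact hb00 (add_eq_right.1 h4)
  · refine commOK hp (K := K) cs b (-vec D l r) hb hr.neg ?_ ?_ z hz u hu
    · intro h3
      rw [_root_.neg_neg] at h3
      rw [h3, h2] at hb0
      omega
    · intro h3
      have h5 : -(b + -vec D l r) = vec D l r := key _ h3.neg (by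
        rw [Pi.neg_apply, Pi.add_apply, Pi.neg_apply, hb0, h2]; norm_num)
      apply hb00
      have h6 : b = (b + -vec D l r) + vec D l r := by rw [neg_add_cancel_right]
      rw [h6]
      nth_rewrite 2 [← h5]
      rw [add_neg_cancel]

/-! ### root `SL₂`s -/

/-- the root `SL₂` of the root `s` -/
noncomputable def ps (D : ChevalleyDatum) (K : Type) [Field K] (hD : InList D) {s : ℕ} (hs : s < D.nroots) :
    Matrix.SpecialLinearGroup (Fin 2) K →* ↥(D.group K) :=
  Rank.psi hD hs (RingHom.id K) (H := D.group K) (fun _ => xG_mem_group hD _ _) (fun _ => xG_mem_group hD _ _)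

theorem coe_ps (hD : InList D) {s : ℕ} (hs : s < D.nroots) (g : Matrix.SpecialLinearGroup (Fin 2) K) :
    ((ps D K hD hs g : ↥(D.group K)) : GL D.Idx K) = phi (SL2All.good_of_mem D hD s hs) K g := by
  unfold ps
  rw [Rank.coe_psi]
  congr 1

theorem ps_up (hD : InList D) {s : ℕ} (hs : s < D.nroots) (t : K) :
    ((ps D K hD hs (up t) : ↥(D.group K)) : GL D.Idx K) = xG hD s t := Rank.psi_up hD hs (RingHom.id K) _ _ t

theorem ps_lo (hD : InList D) {s : ℕ} (hs : s < D.nroots) (t : K) :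
    ((ps D K hD hs (lo t) : ↥(D.group K)) : GL D.Idx K) = xG hD (D.neg s) t :=
  Rank.psi_lo hD hs (RingHom.id K) _ _ t

theorem ps_dg (hD : InList D) {s : ℕ} (hs : s < D.nroots) (c : K) :
    ps D K hD hs (SL.dg c) = hh D K hD s c := by
  apply Subtype.ext
  show _ = hG hD s c
  rw [SL.dg, map_mul, map_mul, map_mul, map_mul, map_mul, coe_mul, coe_mul, coe_mul, coe_mul, coe_mul, ps_up, ps_lo,
    ps_up, ps_lo, hG_def, nG_def, nG_def]
  simp only [mul_assoc]

include hp in
theorem ps_mem {s : ℕ} (hs : s < D.nroots) {L : Subgroup ↥(D.group K)} (h1 : XX D l K (vec D l s) ≤ L)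
    (h2 : XX D l K (-vec D l s) ≤ L) (g : Matrix.SpecialLinearGroup (Fin 2) K) : ps D K hp.inList hs g ∈ L := by
  refine Rank.psi_mem hp.inList hs (RingHom.id K) _ _ ?_ ?_ g
  · intro t
    exact h1 ((mem_XX hp K hs).2 ⟨t, rfl⟩)
  · intro t
    apply h2
    rw [← vec_neg hp hs]
    exact (mem_XX hp K (neg_lt hp.checked hs)).2 ⟨t, rfl⟩

include hp in
/-- the `SL₂` of the highest root centralises `⟨X b : b_k = 0⟩` -/
theorem TD.ps_comm (S : TD D f k r) (g : Matrix.SpecialLinearGroup (Fin 2) K) :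
    ∀ u ∈ RGD.Sup (XX D l K) {b | IsRoot cs hp.isCartan b ∧ b k = 0}, ps D K hp.inList S.lt g * u =
      u * ps D K hp.inList S.lt g := by
  intro u hu
  have h1 : ps D K hp.inList S.lt g ∈ centralizer (RGD.Sup (XX D l K) {b | IsRoot cs hp.isCartan b ∧ b k = 0} :
      Set ↥(D.group K)) := by
    refine ps_mem hp S.lt ?_ ?_ g
    · intro z hz
      rw [mem_centralizer_iff]
      intro v hv
      have h2 : RGD.Sup (XX D l K) {b | IsRoot cs hp.isCartan b ∧ b k = 0} ≤ centralizer {z} :=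
        RGD.Sup_le fun b hb v hv => by
          rw [mem_centralizer_singleton_iff]
          exact S.comm_top hp cs hb.1 hb.2 hv (Or.inl hz)
      exact (mem_centralizer_singleton_iff.1 (h2 hv))
    · intro z hz
      rw [mem_centralizer_iff]
      intro v hv
      have h2 : RGD.Sup (XX D l K) {b | IsRoot cs hp.isCartan b ∧ b k = 0} ≤ centralizer {z} :=
        RGD.Sup_le fun b hb v hv => by
          rw [mem_centralizer_singleton_iff]
          exact S.comm_top hp cs hb.1 hb.2 hv (Or.inr hz)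
      exact (mem_centralizer_singleton_iff.1 (h2 hv))
  exact ((mem_centralizer_iff.1 h1) u hu).symm

include hp in
/-- **The centraliser of an element of odd prime order of the `SL₂` of the highest root, over a splitting field.** -/
theorem TD.norm_split (S : TD D f k r) [Finite K] (p₀ : ℕ) [Fact p₀.Prime] [CharP K p₀] {q : ℕ} (hq : q.Prime)
    (hq2 : q ≠ 2) (hqK : (q : K) ≠ 0) {ζ : K} (hζ : IsPrimitiveRoot ζ q) {g : Matrix.SpecialLinearGroup (Fin 2) K}
    (hg : g ^ q = 1) (hg1 : g ≠ 1) {y : ↥(D.group K)} (hy : y * ps D K hp.inList S.lt g = ps D K hp.inList S.lt g * y) :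
    ∀ u ∈ RGD.Sup (XX D l K) {b | IsRoot cs hp.isCartan b ∧ b k = 0}, y * u * y⁻¹ ∈
      RGD.Sup (XX D l K) {b | IsRoot cs hp.isCartan b ∧ b k = 0} := by
  obtain ⟨a, c, hc0, hcq, hc1, ha⟩ := SL.exists_conj hq hq2 hqK hζ hg hg1
  have hodd : Odd q := hq.odd_of_ne_two hq2
  have hc2 : c ^ 2 ≠ 1 := by
    intro h3
    obtain ⟨j, hj⟩ := hodd
    rw [hj, pow_succ, pow_mul, h3, one_pow, one_mul] at hcq
    exact hc1 hcq
  set ψ := ps D K hp.inList S.lt with hψ
  have h3 : ψ a * ψ g * (ψ a)⁻¹ = hh D K hp.inList r c := by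
    rw [← ps_dg hp.inList S.lt, ← ha, map_mul, map_mul, map_inv]
  have h4 : (ψ a * y * (ψ a)⁻¹) * hh D K hp.inList r c = hh D K hp.inList r c * (ψ a * y * (ψ a)⁻¹) := by
    rw [← h3]
    calc ψ a * y * (ψ a)⁻¹ * (ψ a * ψ g * (ψ a)⁻¹) = ψ a * (y * ψ g) * (ψ a)⁻¹ := by group
      _ = ψ a * (ψ g * y) * (ψ a)⁻¹ := by rw [hy]
      _ = _ := by group
  intro u hu
  have h5 := S.norm_hG hp cs p₀ hc0 hc1 hc2 h4 u hu
  have hku : (ψ a)⁻¹ * u * ψ a = u := by
    rw [mul_assoc, ← S.ps_comm hp cs a u hu, inv_mul_cancel_left]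
  have h6 := S.ps_comm hp cs a _ h5
  have h7 : y * u * y⁻¹ = (ψ a)⁻¹ * (ψ a * y * (ψ a)⁻¹ * u * (ψ a * y * (ψ a)⁻¹)⁻¹) * ψ a := by
    calc y * u * y⁻¹ = y * ((ψ a)⁻¹ * u * ψ a) * y⁻¹ := by rw [hku]
      _ = _ := by group
  rw [h7, mul_assoc, ← h6, inv_mul_cancel_left]
  exact h5

include hp in
/-- **The centraliser of an element of odd prime order of the `SL₂` of the highest root.** -/
theorem TD.norm_psi (S : TD D f k r) {F : Type} [Field F] [Finite F] (p₀ : ℕ) [Fact p₀.Prime] [CharP F p₀] {q : ℕ}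
    (hq : q.Prime) (hq2 : q ≠ 2) (hqF : q ≠ p₀) {g : Matrix.SpecialLinearGroup (Fin 2) F}
    (hg : g ^ q = 1) (hg1 : g ≠ 1) {y : ↥(D.group F)} (hy : y * ps D F hp.inList S.lt g = ps D F hp.inList S.lt g * y) :
    ∀ u ∈ HL cs hp.isCartan (XX D l F) f, y * u * y⁻¹ ∈ HL cs hp.isCartan (XX D l F) f := by
  have : Finite W := finite_W hp cs
  have hD := hp.inList
  -- the big field
  have hpF : (q : F) ≠ 0 := by
    intro h3
    exact hqF ((Nat.prime_dvd_prime_iff_eq Fact.out hq).1 ((CharP.cast_eq_zero_iff F p₀ q).1 h3)).symm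
  have : NeZero (q : F) := ⟨hpF⟩
  have : NeZero q := ⟨hq.ne_zero⟩
  let K := CyclotomicField q F
  have hqK : (q : K) ≠ 0 := by
    intro h3
    apply hpF
    have h4 : algebraMap F K (q : F) = 0 := by rw [map_natCast]; exact h3
    exact (map_eq_zero_iff _ (algebraMap F K).injective).1 h4
  have : NeZero (q : K) := ⟨hqK⟩
  obtain ⟨ζ, hζ⟩ : ∃ ζ : K, IsPrimitiveRoot ζ q := ⟨_, IsCyclotomicExtension.zeta_spec q F K⟩
  have : Module.Finite F K := IsCyclotomicExtension.finite_of_singleton q F K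
  have hKfin : Finite K := Module.finite_of_finite F
  have hchK : CharP K p₀ := charP_of_injective_algebraMap (algebraMap F K).injective p₀
  -- the image of `g`
  set g' := Matrix.SpecialLinearGroup.map (algebraMap F K) g with hg'
  have hx : Field.emb hD (algebraMap F K) (ps D F hD S.lt g) = ps D K hD S.lt g' := by
    apply Subtype.ext
    rw [Field.coe_emb, coe_ps, coe_ps]
    exact GpExc.Chev.glMap_phi hD S.lt (algebraMap F K) g
  have h1 : Field.emb hD (algebraMap F K) y * ps D K hD S.lt g' = ps D K hD S.lt g' *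
      Field.emb hD (algebraMap F K) y := by rw [← hx, ← map_mul, ← map_mul, hy]
  have h3 := S.norm_split hp cs p₀ hq hq2 hqK hζ (g := g') (by rw [hg', ← map_pow, hg, map_one])
    (by
      intro h5
      exact hg1 (Rank.map_injective (algebraMap F K) (by rw [← hg', h5, map_one]))) h1
  have hset : HL cs hp.isCartan (XX D l F) f = RGD.Sup (XX D l F) {a | IsRoot cs hp.isCartan a ∧ a k = 0} := by
    unfold HL
    congr 1
    ext b
    unfold LR
    refine and_congr_right fun _ => ?_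
    constructor
    · intro h5
      exact h5 k fun a => (S.hk k).1 (List.mem_singleton.2 rfl) a
    · intro h5 i hi
      rw [List.mem_singleton.1 ((S.hk i).2 hi)]
      exact h5
  rw [hset]
  refine Over.conj_mem (rgd (K := K) hp cs p₀) (rgd (K := F) hp cs p₀) (Field.comp hp (algebraMap F K) cs (ev k))
    (Field.comp hp (algebraMap F K) cs (-ev k)) (fun i => ?_) (KFacts.RgdRigid.GG_eq_top (G1_eq_top hp cs))
    (K := RGD.Sup (XX D l K) {b | IsRoot cs hp.isCartan b ∧ b k = 0}) ?_ ?_ ?_ h3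
  · rw [ev_apply]
    exact sr_nonneg i k
  · exact RGD.Sup_le fun b hb => X_le_PS ⟨hb.1, by rw [ev_apply, hb.2]⟩
  · exact RGD.Sup_le fun b hb => X_le_PS ⟨hb.1, by rw [neg_ev_apply, hb.2, neg_zero]⟩
  · intro a ha h5
    exact (Field.emb_X hp (algebraMap F K) cs ha).trans
      (RGD.le_Sup (X := fun x => (XV D l K x).subgroupOf (D.group K))
        (show a ∈ {b | IsRoot cs hp.isCartan b ∧ b k = 0} from ⟨ha, h5⟩))

end

end Cfsg.Agent.H486.NB.Cent
end

-- part: H486/NB/Exc
section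
/-!
# Exceptional groups have a non-principal `p`-block, `p` odd, `p ∣ q ^ 2 - 1` (helper486; task 2476 of helper718)

`x` of order `p` in the `SL₂` of the highest root; `C(x)` normalises the quasisimple group `HL = ⟨X b : b_k = 0⟩` of the
roots orthogonal to the highest root.
-/

set_option autoImplicit false
set_option linter.unusedSectionVars false

namespace Cfsg.Agent.H486.NB.Exc

open CoxeterSystem Subgroup
open Cfsg Cfsg.Lie Cfsg.Lie.ChevalleyDatum
open Cfsg.Agent.ChevalleyStructure Cfsg.Agent.ChevalleyStructure.Elts Cfsg.Agent.ChevalleyStructure.CoxeterGeom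
  Cfsg.Agent.ChevalleyStructure.RootVec Cfsg.Agent.ChevalleyStructure.RootVecTab
  Cfsg.Agent.ChevalleyStructure.CoxeterGeomTypes Cfsg.Agent.ChevalleyStructure.NPerm
  Cfsg.Agent.ChevalleyStructure.SL2Hom Cfsg.Agent.ChevalleyStructure.SL2Rep
open Cfsg.Agent.Tits.Roots Cfsg.Agent.Nodes.Reps Cfsg.Agent.Nodes.BNOf Cfsg.Agent.Nodes.RGDChev
  Cfsg.Agent.Nodes.Bruhat Cfsg.Agent.Nodes.SubComb Cfsg.Agent.Nodes.Sub
open Cfsg.Agent.KFacts.RgdPar
open Cfsg.Agent.KFacts.RgdChevCoord (TT XX nc)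
open Cfsg.Agent.GenExc
open Cfsg.Agent.GenExc.Chev (mem_XX commOK)
open Cfsg.Agent.GpExc
open Cfsg.Agent.H486.NB.Cent
open Cfsg.Agent.H7.NBp (NB)
open Cfsg.Agent.H718.NBIH (IH)
open scoped commutatorElement

theorem cent_zp {G : Type*} [Group G] (x : G) : centralizer (zpowers x : Set G) = centralizer ({x} : Set G) := by
  rw [zpowers_eq_closure, centralizer_closure]

theorem quot_not_comm {L : Type*} [Group L] (h : IsQuasisimple L) : ¬ IsMulCommutative (L ⧸ center L) :=
  H472.ComRed.quot_not_comm h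

section

variable {D : ChevalleyDatum} {l : ℕ} {M : CoxeterMatrix (Fin l)} (hp : IsType D l M)
  {m : ℕ} {f : Fin (m + 1) ↪ Fin l} {k : Fin l} {r : ℕ} {F : Type} [Field F]
  {W : Type*} [Group W] (cs : CoxeterSystem M W)

theorem dg_up {c : F} (hc : c ≠ 0) (t : F) : SL.dg c * up t * (SL.dg c)⁻¹ = up (c ^ 2 * t) := by
  rw [mul_inv_eq_iff_eq_mul]
  apply Subtype.ext
  rw [Matrix.SpecialLinearGroup.coe_mul, Matrix.SpecialLinearGroup.coe_mul, SL.coe_dg hc]
  show !![c, 0; 0, c⁻¹] * !![(1 : F), t; 0, 1] = !![(1 : F), c ^ 2 * t; 0, 1] * !![c, 0; 0, c⁻¹]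
  ext i j
  fin_cases i <;> fin_cases j <;> simp [Matrix.mul_apply, Fin.sum_univ_two]
  field_simp

theorem up_mul (s t : F) : up s * up t = up (s + t) := by
  apply Subtype.ext
  show !![(1 : F), s; 0, 1] * !![(1 : F), t; 0, 1] = !![(1 : F), s + t; 0, 1]
  ext i j
  fin_cases i <;> fin_cases j <;> simp [Matrix.mul_apply, Fin.sum_univ_two, add_comm]

theorem up_inv (s : F) : (up s)⁻¹ = up (-s) := by
  rw [inv_eq_iff_mul_eq_one, up_mul, add_neg_cancel]
  apply Subtype.ext
  ext i j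
  fin_cases i <;> fin_cases j <;> simp [up]

include hp in
/-- perfectness, `q ≥ 4` -/
theorem perf_tor {c : F} (hc : c ≠ 0) (hc2 : c ^ 2 ≠ 1) (f : Fin (m + 1) ↪ Fin l) :
    ∀ x ∈ LR cs hp.isCartan f, XX D l F x ≤
      ⁅HL cs hp.isCartan (XX D l F) f, HL cs hp.isCartan (XX D l F) f⁆ := by
  intro x hx u hu
  obtain ⟨s, hs, rfl⟩ := (isRoot_iff hp cs x).1 hx.1
  obtain ⟨t, ht⟩ := (mem_XX hp F hs).1 hu
  have h1 : c ^ 2 - 1 ≠ 0 := sub_ne_zero.2 hc2
  have hm : ∀ g, ps D F hp.inList hs g ∈ HL cs hp.isCartan (XX D l F) f :=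
    ps_mem hp hs (X_le_HL f hx) (X_le_HL f (LR_neg f hx))
  have h3 : u = ⁅ps D F hp.inList hs (SL.dg c), ps D F hp.inList hs (up (t / (c ^ 2 - 1)))⁆ := by
    rw [← map_commutatorElement, commutatorElement_def, dg_up hc, up_inv, up_mul]
    apply Subtype.ext
    rw [ht, ps_up]
    congr 1
    field_simp
    ring
  rw [h3]
  exact Subgroup.commutator_mem_commutator (hm _) (hm _)

/-- an element `c` with `c² ≠ 1` -/
theorem exists_sq_ne [Fintype F] (h : 4 ≤ Fintype.card F) : ∃ c : F, c ≠ 0 ∧ c ^ 2 ≠ 1 := by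
  classical
  by_contra hcon
  push Not at hcon
  have h5 : (Finset.univ : Finset F) ⊆ {0, 1, -1} := by
    intro c _
    rw [Finset.mem_insert, Finset.mem_insert, Finset.mem_singleton]
    by_cases hc : c = 0
    · exact Or.inl hc
    · exact Or.inr (mul_self_eq_one_iff.1 (by rw [← pow_two]; exact hcon c hc))
  have h6 := Finset.card_le_card h5
  rw [Finset.card_univ] at h6
  have h7 : ({0, 1, -1} : Finset F).card ≤ 3 := Finset.card_le_three
  omega

include hp in
/-- **The reduction.** -/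
theorem nb_of_td (S : TD D f k r) [Fintype F] {p : ℕ} [Fact p.Prime] (hp2 : p ≠ 2)
    (hpq : p ∣ Fintype.card F ^ 2 - 1) [IsSimpleGroup ↥(D.group F)] (ih : IH p (Nat.card ↥(D.group F)))
    (hperf : ∀ x ∈ LR cs hp.isCartan f, XX D l F x ≤
      ⁅HL cs hp.isCartan (XX D l F) f, HL cs hp.isCartan (XX D l F) f⁆) : NB p ↥(D.group F) := by
  classical
  have hpp : p.Prime := Fact.out
  obtain ⟨p₀, hpr, hcp⟩ : ∃ p₀ : ℕ, p₀.Prime ∧ CharP F p₀ := by
    obtain ⟨p₀, hcp⟩ := CharP.exists F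
    exact ⟨p₀, CharP.char_is_prime F p₀, hcp⟩
  have : Fact p₀.Prime := ⟨hpr⟩
  have : Finite W := finite_W hp cs
  have hfin : Finite ↥(D.group F) := inferInstance
  have hne : p ≠ p₀ := by
    rintro rfl
    have h1 : p ∣ Fintype.card F := (CharP.cast_eq_zero_iff F p _).1 (by simp)
    have h2 : p ∣ Fintype.card F ^ 2 := dvd_pow h1 two_ne_zero
    have h3 : 1 < Fintype.card F := Fintype.one_lt_card
    have h4 : 1 ≤ Fintype.card F ^ 2 := Nat.one_le_pow _ _ (by omega)
    have h5 : p ∣ 1 := by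
      have := (Nat.dvd_sub_iff_right h4 h2).1 hpq
      exact this
    exact hpp.one_lt.ne' (Nat.dvd_one.1 h5)
  obtain ⟨g, hg⟩ := OutOf.exists_order (F := F) hpp hpq
  have hgp : g ^ p = 1 := by rw [← hg]; exact pow_orderOf_eq_one g
  have hg1 : g ≠ 1 := by
    rintro rfl
    rw [orderOf_one] at hg
    exact hpp.one_lt.ne' hg.symm
  set ψ := ps D F hp.inList S.lt with hψ
  set L := HL cs hp.isCartan (XX D l F) f with hL
  have hset : L = RGD.Sup (XX D l F) {a | IsRoot cs hp.isCartan a ∧ a k = 0} := by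
    rw [hL]
    unfold HL
    congr 1
    ext b
    unfold LR
    refine and_congr_right fun _ => ?_
    constructor
    · intro h5
      exact h5 k fun a => (S.hk k).1 (List.mem_singleton.2 rfl) a
    · intro h5 i hi
      rw [List.mem_singleton.1 ((S.hk i).2 hi)]
      exact h5
  have hcomm : ∀ g, ∀ u ∈ L, ψ g * u = u * ψ g := by
    rw [hset]
    exact fun g => S.ps_comm hp cs g
  -- the component
  have hqs : IsQuasisimple ↥L := isQuasisimple_HL f (rgd (K := F) hp cs p₀) (fun j => GenExc.Chev.nc_mem hp F cs f j)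
    (S.conn hp) (GenExc.Chev.diag_comm hp F) hperf
  have hLne : L ≠ ⊤ := by
    intro htop
    have h1 : ψ (up 1) ∈ center ↥(D.group F) := by
      rw [mem_center_iff]
      intro y
      exact (hcomm _ y (htop ▸ mem_top y)).symm
    have h2 : center ↥(D.group F) = ⊥ := by
      rcases (inferInstance : (center ↥(D.group F)).Normal).eq_bot_or_eq_top with h3 | h3
      · exact h3
      · exfalso
        apply quot_not_comm hqs
        have h4 : ∀ a b : ↥(D.group F), a * b = b * a := fun a b => (mem_center_iff.1 (h3 ▸ mem_top a) b).symm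
        refine ⟨⟨?_⟩⟩
        rintro ⟨a⟩ ⟨b⟩
        exact congrArg _ (Subtype.ext (h4 a b))
    rw [h2, mem_bot] at h1
    have h3 : xG hp.inList r (1 : F) = xG hp.inList r 0 := by
      rw [← ps_up hp.inList S.lt, ← hψ, h1, xG_zero]
      rfl
    exact one_ne_zero (xG_injective hp.inList S.lt h3)
  have hcard : Nat.card (↥L ⧸ center ↥L) < Nat.card ↥(D.group F) := by
    refine lt_of_le_of_lt (Nat.card_le_card_of_surjective _ (QuotientGroup.mk'_surjective (center ↥L))) ?_
    exact lt_of_le_of_ne (Subgroup.card_le_card_group L) fun h => hLne (Subgroup.eq_top_of_card_eq L h)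
  have : IsSimpleGroup (↥L ⧸ center ↥L) := hqs.2
  have hnb : NB p (↥L ⧸ center ↥L) :=
    ih.use (quot_not_comm hqs) hcard
  -- the `p`-subgroup
  have hQ : IsPGroup p (zpowers (ψ g)) := by
    rw [IsPGroup.iff_card]
    rw [Nat.card_zpowers]
    exact (Nat.dvd_prime_pow hpp).1 (by rw [pow_one]; exact orderOf_dvd_of_pow_eq_one (by rw [← map_pow, hgp, map_one])) |>.imp fun _ h => h.2
  refine H7.NBp.NB.of_cover (zpowers (ψ g)) hQ L ?_ ?_ (QuotientGroup.mk' (center ↥L))
    (QuotientGroup.mk'_surjective _) (by rw [QuotientGroup.ker_mk']) hnb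
  · intro u hu
    rw [cent_zp, mem_centralizer_singleton_iff]
    exact (hcomm g u hu).symm
  · intro y hy
    rw [cent_zp, mem_centralizer_singleton_iff] at hy
    exact S.norm_psi hp cs p₀ hpp hp2 hne hgp hg1 hy

end

end Cfsg.Agent.H486.NB.Exc
end

-- part: H486/NB/Rows
section
/-!
# `G₂(q)`, `F₄(q)`, `E₆(q)`, `E₇(q)`, `E₈(q)` have a non-principal `p`-block, `p` odd, `p ∣ q ^ 2 - 1`
(helper486; task 2476 of helper718)
-/

set_option autoImplicit false
set_option linter.unusedSectionVars false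

namespace Cfsg.Agent.H486.NB.Rows

open CoxeterSystem Cfsg.Agent.ChevalleyStructure.CoxeterGeom Cfsg.Agent.Tits.Roots Cfsg.Agent.Tits.Core
  Cfsg.Agent.Tits.RootComb Cfsg.Agent.Nodes.Comb Cfsg.Agent.Nodes.Coroot Cfsg.Agent.Nodes.Reps
  Cfsg.Agent.Nodes.BNOf Cfsg.Agent.Nodes.SubComb Cfsg.Agent.Nodes.Sub Cfsg.Agent.GenExc
  Cfsg.Agent.KFacts.ChevTwo Cfsg.Agent.GpExc.Perf
open scoped commutatorElement

section perf

variable {I W Y K : Type*} [Fintype I] [DecidableEq I] [Group W] [Group Y] [Field K] {M : CoxeterMatrix I}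
  {cs : CoxeterSystem M W} {A : I → I → ℤ} {h : IsCartan M A} {e : (I → ℤ) → K → Y}
  {p : ℕ} {T : Subgroup Y} {n : I → Y} {X : (I → ℤ) → Subgroup Y}
  {J : Type*} [Fintype J] [DecidableEq J] (f : J ↪ I)

variable [Finite W] {R : RGD cs h p T n X} (S : Sys R e)

include S

/-- two roots of the same length -/
theorem perf_one {j j' : J} (h1 : A (f j) (f j') = -1) (h2 : A (f j') (f j) = -1) :
    X (sr (f j)) ≤ ⁅HL cs h X f, HL cs h X f⁆ := by
  intro u hu
  obtain ⟨t, rfl⟩ := (S.mem_X _ (isRoot_sr cs h _) u).1 hu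
  set a : I → ℤ := sr (f j) with ha
  set b : I → ℤ := sr (f j') with hb
  have hra : IsRoot cs h a := isRoot_sr cs h _
  have hrb : IsRoot cs h b := isRoot_sr cs h _
  have pab : cpr cs h a b = -1 := by rw [hb, cpr_sr, ha, pair_sr, h2]
  have pba : cpr cs h b a = -1 := by rw [ha, cpr_sr, hb, pair_sr, h1]
  have hx : IsRoot cs h (a + b) := by
    have h3 := isRoot_refl cs h hra hrb
    rwa [pab, neg_one_smul, sub_neg_eq_add] at h3
  have hxL : a + b ∈ LR cs h f := by
    refine ⟨hx, fun k hk => ?_⟩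
    rw [Pi.add_apply, ha, hb, sr_ne (hk j).symm, sr_ne (hk j').symm, add_zero]
  have e1 : cpr cs h (a + b) (-b) = -1 := by
    rw [cpr_neg_right cs h _ hrb, cpr_add cs h _ _ hrb, pab, cpr_self cs h hrb]
    norm_num
  have e2 : cpr cs h (-b) (a + b) = -1 := by
    have h3 : rep cs h (cs.simple (f j')) a = a + b := by
      rw [rep_simple_eq, ← cpr_sr cs h, ← hb, pab, neg_one_smul, sub_neg_eq_add]
    have h4 : rep cs h (cs.simple (f j')) b = -b := by rw [hb, rep_simple_sr]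
    rw [← h4, ← h3, cpr_rep cs h _ _ hra, pba]
  have h5 := S.data.comm1 (a + b) (-b) hx hrb.neg e1 e2 t 1
  rw [add_neg_cancel_right, mul_one] at h5
  rw [← h5]
  exact Subgroup.commutator_mem_commutator (e_mem f S hxL _) (e_mem f S (LR_neg f (sr_mem_LR f j')) _)

/-- `j` short, `j'` long -/
theorem perf_two {j j' : J} (h1 : A (f j) (f j') = -2) (h2 : A (f j') (f j) = -1)
    (hs : X (sr (f j)) ≤ ⁅HL cs h X f, HL cs h X f⁆) : X (sr (f j')) ≤ ⁅HL cs h X f, HL cs h X f⁆ := by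
  intro u hu
  obtain ⟨t, rfl⟩ := (S.mem_X _ (isRoot_sr cs h _) u).1 hu
  set a : I → ℤ := sr (f j) with ha
  set b : I → ℤ := sr (f j') with hb
  have hra : IsRoot cs h a := isRoot_sr cs h _
  have hrb : IsRoot cs h b := isRoot_sr cs h _
  have pba : cpr cs h b a = -2 := by rw [ha, cpr_sr, hb, pair_sr, h1]
  have pab : cpr cs h a b = -1 := by rw [hb, cpr_sr, ha, pair_sr, h2]
  -- `x = b + 2 a`, `y = -a`
  have h3 : rep cs h (cs.simple (f j)) b = b + 2 • a := by
    rw [rep_simple_eq, ← cpr_sr cs h, ← ha, pba]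
    rw [sub_eq_add_neg, ← neg_smul, _root_.neg_neg]
    rfl
  have h4 : rep cs h (cs.simple (f j)) a = -a := by rw [ha, rep_simple_sr]
  have h5 : rep cs h (cs.simple (f j')) a = a + b := by
    rw [rep_simple_eq, ← cpr_sr cs h, ← hb, pab, neg_one_smul, sub_neg_eq_add]
  have hx : IsRoot cs h (b + 2 • a) := by
    rw [← h3]
    exact hrb.act _
  have hxy : IsRoot cs h (a + b) := by
    rw [← h5]
    exact hra.act _
  have hxL : b + 2 • a ∈ LR cs h f := by
    refine ⟨hx, fun k hk => ?_⟩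
    rw [Pi.add_apply, Pi.smul_apply, ha, hb, sr_ne (hk j).symm, sr_ne (hk j').symm, smul_zero, add_zero]
  have e1 : cpr cs h (b + 2 • a) (-a) = -2 := by
    rw [← h3, ← h4, cpr_rep cs h _ _ hra, pba]
  have e2 : cpr cs h (-a) (b + 2 • a) = -1 := by
    rw [← h3, ← h4, cpr_rep cs h _ _ hrb, pab]
  have h6 := S.data.comm2 (b + 2 • a) (-a) hx hra.neg e1 e2 t 1
  have e3 : b + 2 • a + -a = a + b := by rw [two_smul]; abel
  have e4 : b + 2 • a + (2 : ℤ) • -a = b := by rw [two_smul, two_smul]; abel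
  rw [e3, e4, mul_one, one_pow, mul_one] at h6
  -- `e (a + b) t`
  have h7 : e (a + b) t ∈ ⁅HL cs h X f, HL cs h X f⁆ := by
    have hn : n (f j') ∈ HL cs h X f := n_mem f S j'
    have h8 := S.data.refl (f j') a hra t
    rw [← S.n_eq, h5] at h8
    rw [← h8]
    have h9 : e a t ∈ ⁅HL cs h X f, HL cs h X f⁆ := hs (S.mem hra t)
    have h10 : n (f j') * e a t * (n (f j'))⁻¹ = ⁅n (f j'), e a t⁆ * e a t := by
      rw [commutatorElement_def]; group
    rw [h10]
    exact mul_mem (Subgroup.commutator_mem_commutator hn (e_mem f S (sr_mem_LR f j) t)) h9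
  have h8 : e b t = (e (a + b) t)⁻¹ * ⁅e (b + 2 • a) t, e (-a) 1⁆ := by
    rw [h6, inv_mul_cancel_left]
  rw [h8]
  exact mul_mem (inv_mem h7) (Subgroup.commutator_mem_commutator (e_mem f S hxL _)
    (e_mem f S (LR_neg f (sr_mem_LR f j)) _))

end perf

open Cfsg Cfsg.Lie Cfsg.Lie.ChevalleyDatum
open Cfsg.Agent.ChevalleyStructure Cfsg.Agent.ChevalleyStructure.RootVec Cfsg.Agent.ChevalleyStructure.RootVecTab
  Cfsg.Agent.ChevalleyStructure.CoxeterGeomTypes
open Cfsg.Agent.Nodes.RGDChev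
open Cfsg.Agent.KFacts.RgdChevCoord (TT XX nc)
open Cfsg.Agent.KFacts.ChevTwoInst (eg sys TwoOK twoOK_F4 twoOK_E6 twoOK_E7 twoOK_E8)
open Cfsg.Agent.H486.NB.Cent Cfsg.Agent.H486.NB.Exc
open Cfsg.Agent.H7.NBp (NB)
open Cfsg.Agent.H718.NBIH (IH)
open Cfsg.Agent.GpExc.Chev (eF4 eE6 eE7 eE8 isTy_F4 isTy_E6 isTy_E7 isTy_E8 datF4 datE6 datE7 datE8)

theorem tdF4 : TD chevF4 (m := 2) eF4 3 47 where
  hk := datF4.hk
  par := datF4.par
  lt := by decide +kernel
  car := by (delta Cfsg.Agent.ChevalleyStructure.Strings.cartanR Cfsg.Agent.ChevalleyStructure.Strings.co; rewrite [Cfsg.Agent.ChevFast.F4.cartan, Cfsg.Agent.ChevFast.F4.coroot]; decide +kernel)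
  uniq := by decide +kernel
  two := by decide +kernel
  le := by decide +kernel

theorem tdE6 : TD chevE6 (m := 4) eE6 1 71 where
  hk := datE6.hk
  par := datE6.par
  lt := by decide +kernel
  car := by (delta Cfsg.Agent.ChevalleyStructure.Strings.cartanR Cfsg.Agent.ChevalleyStructure.Strings.co; rewrite [Cfsg.Agent.ChevFast.E6.cartan, Cfsg.Agent.ChevFast.E6.coroot]; decide +kernel)
  uniq := by decide +kernel
  two := by decide +kernel
  le := by decide +kernel

theorem car7a : ∀ s < 63, Strings.cartanR chevE7 125 s = rt chevE7 s (0 : Fin 7) := by (delta Cfsg.Agent.ChevalleyStructure.Strings.cartanR Cfsg.Agent.ChevalleyStructure.Strings.co; rewrite [Cfsg.Agent.ChevFast.E7.cartan, Cfsg.Agent.ChevFast.E7.coroot]; decide +kernel)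

theorem car7b : ∀ s < 63, Strings.cartanR chevE7 125 (63 + s) = rt chevE7 (63 + s) (0 : Fin 7) := by (delta Cfsg.Agent.ChevalleyStructure.Strings.cartanR Cfsg.Agent.ChevalleyStructure.Strings.co; rewrite [Cfsg.Agent.ChevFast.E7.cartan, Cfsg.Agent.ChevFast.E7.coroot]; decide +kernel)

theorem car7 : ∀ s < chevE7.nroots, Strings.cartanR chevE7 125 s = rt chevE7 s (0 : Fin 7) := by
  intro s hs
  have hs' : s < 126 := hs
  rcases Nat.lt_or_ge s 63 with h | h
  · exact car7a s h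
  · obtain ⟨t, rfl⟩ := Nat.exists_eq_add_of_le h
    exact car7b t (by omega)

theorem tdE7 : TD chevE7 (m := 5) eE7 0 125 where
  hk := datE7.hk
  par := datE7.par
  lt := by decide +kernel
  car := car7
  uniq := by decide +kernel
  two := by decide +kernel
  le := by decide +kernel

theorem car8_0 : ∀ s < 40, Strings.cartanR chevE8 239 s = rt chevE8 s (7 : Fin 8) := by (delta Cfsg.Agent.ChevalleyStructure.Strings.cartanR Cfsg.Agent.ChevalleyStructure.Strings.co; rewrite [Cfsg.Agent.ChevFast.E8.cartan, Cfsg.Agent.ChevFast.E8.coroot]; decide +kernel)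

theorem car8_1 : ∀ s < 40, Strings.cartanR chevE8 239 (40 + s) = rt chevE8 (40 + s) (7 : Fin 8) := by
  (delta Cfsg.Agent.ChevalleyStructure.Strings.cartanR Cfsg.Agent.ChevalleyStructure.Strings.co; rewrite [Cfsg.Agent.ChevFast.E8.cartan, Cfsg.Agent.ChevFast.E8.coroot]; decide +kernel)

theorem car8_2 : ∀ s < 40, Strings.cartanR chevE8 239 (80 + s) = rt chevE8 (80 + s) (7 : Fin 8) := by
  (delta Cfsg.Agent.ChevalleyStructure.Strings.cartanR Cfsg.Agent.ChevalleyStructure.Strings.co; rewrite [Cfsg.Agent.ChevFast.E8.cartan, Cfsg.Agent.ChevFast.E8.coroot]; decide +kernel)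

theorem car8_3 : ∀ s < 40, Strings.cartanR chevE8 239 (120 + s) = rt chevE8 (120 + s) (7 : Fin 8) := by
  (delta Cfsg.Agent.ChevalleyStructure.Strings.cartanR Cfsg.Agent.ChevalleyStructure.Strings.co; rewrite [Cfsg.Agent.ChevFast.E8.cartan, Cfsg.Agent.ChevFast.E8.coroot]; decide +kernel)

theorem car8_4 : ∀ s < 40, Strings.cartanR chevE8 239 (160 + s) = rt chevE8 (160 + s) (7 : Fin 8) := by
  (delta Cfsg.Agent.ChevalleyStructure.Strings.cartanR Cfsg.Agent.ChevalleyStructure.Strings.co; rewrite [Cfsg.Agent.ChevFast.E8.cartan, Cfsg.Agent.ChevFast.E8.coroot]; decide +kernel)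

theorem car8_5 : ∀ s < 40, Strings.cartanR chevE8 239 (200 + s) = rt chevE8 (200 + s) (7 : Fin 8) := by
  (delta Cfsg.Agent.ChevalleyStructure.Strings.cartanR Cfsg.Agent.ChevalleyStructure.Strings.co; rewrite [Cfsg.Agent.ChevFast.E8.cartan, Cfsg.Agent.ChevFast.E8.coroot]; decide +kernel)

theorem car8 : ∀ s < chevE8.nroots, Strings.cartanR chevE8 239 s = rt chevE8 s (7 : Fin 8) := by
  intro s hs
  have hs' : s < 240 := hs
  rcases Nat.lt_or_ge s 40 with h | h
  · exact car8_0 s h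
  rcases Nat.lt_or_ge s 80 with h1 | h1
  · obtain ⟨t, rfl⟩ := Nat.exists_eq_add_of_le h
    exact car8_1 t (by omega)
  rcases Nat.lt_or_ge s 120 with h2 | h2
  · obtain ⟨t, rfl⟩ := Nat.exists_eq_add_of_le h1
    exact car8_2 t (by omega)
  rcases Nat.lt_or_ge s 160 with h3 | h3
  · obtain ⟨t, rfl⟩ := Nat.exists_eq_add_of_le h2
    exact car8_3 t (by omega)
  rcases Nat.lt_or_ge s 200 with h4 | h4
  · obtain ⟨t, rfl⟩ := Nat.exists_eq_add_of_le h3
    exact car8_4 t (by omega)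
  · obtain ⟨t, rfl⟩ := Nat.exists_eq_add_of_le h4
    exact car8_5 t (by omega)

theorem tdE8 : TD chevE8 (m := 6) eE8 7 239 where
  hk := datE8.hk
  par := datE8.par
  lt := by decide +kernel
  car := car8
  uniq := by (open scoped Cfsg.Agent.ChevFast.Lin in decide +kernel)
  two := by decide +kernel
  le := by (open scoped Cfsg.Agent.ChevFast.Lin in decide +kernel)

section rows

variable {D : ChevalleyDatum} {l : ℕ} {M : CoxeterMatrix (Fin l)} (hp : IsType D l M)
  {m : ℕ} {f : Fin (m + 1) ↪ Fin l} {k : Fin l} {r : ℕ} {F : Type} [Field F] [Fintype F]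

include hp in
/-- the rows, `q ≥ 4` -/
theorem nb_ge (S : TD D f k r) {p : ℕ} [Fact p.Prime] (hp2 : p ≠ 2) (hq : 4 ≤ Fintype.card F)
    (hpq : p ∣ Fintype.card F ^ 2 - 1) [IsSimpleGroup ↥(D.group F)] (ih : IH p (Nat.card ↥(D.group F))) :
    NB p ↥(D.group F) := by
  obtain ⟨c, hc, hc2⟩ := exists_sq_ne (F := F) hq
  exact nb_of_td hp M.toCoxeterSystem S hp2 hpq ih (perf_tor hp M.toCoxeterSystem hc hc2 f)

/-- `q ≥ 4` or `q = 2` -/
theorem ge_or {p : ℕ} [hp : Fact p.Prime] (hp2 : p ≠ 2) (hpq : p ∣ Fintype.card F ^ 2 - 1) :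
    4 ≤ Fintype.card F ∨ Fintype.card F = 2 := by
  have h1 : 1 < Fintype.card F := Fintype.one_lt_card
  by_contra hcon
  push Not at hcon
  have h2 : Fintype.card F = 3 := by omega
  rw [h2] at hpq
  have h3 : p ∣ 2 ^ 3 := by norm_num at hpq ⊢; exact hpq
  exact hp2 ((Nat.prime_dvd_prime_iff_eq hp.out Nat.prime_two).1 (hp.out.dvd_of_dvd_pow h3))

theorem two_eq_zero_of_card (h : Fintype.card F = 2) : (2 : F) = 0 := by
  have h1 : ((Fintype.card F : ℕ) : F) = 0 := by simp
  rw [h] at h1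
  exact_mod_cast h1

include hp in
/-- the rows, type `E` -/
theorem nb_lace (S : TD D f k r) (hOK : TwoOK D)
    (hj : ∀ j, ∃ j', cartanOf D l (f j) (f j') = -1 ∧ cartanOf D l (f j') (f j) = -1)
    {p : ℕ} [Fact p.Prime] (hp2 : p ≠ 2)
    (hpq : p ∣ Fintype.card F ^ 2 - 1) [IsSimpleGroup ↥(D.group F)] (ih : IH p (Nat.card ↥(D.group F))) :
    NB p ↥(D.group F) := by
  rcases ge_or (F := F) hp2 hpq with hq | hq
  · exact nb_ge hp S hp2 hq hpq ih
  · have h2 := two_eq_zero_of_card hq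
    let cs : CoxeterSystem M M.Group := M.toCoxeterSystem
    have : Finite M.Group := finite_W hp cs
    have hchF : CharP F 2 := CharTwo.of_one_ne_zero_of_two_eq_zero one_ne_zero h2
    have hsys : Sys (rgd (K := F) hp cs 2) (eg hp F) := sys hp hOK cs
    exact nb_of_td hp cs S hp2 hpq ih (perf_lace f hsys hj)

end rows

section F

variable {F : Type} [Field F] [Fintype F] {p : ℕ} [Fact p.Prime] (hp2 : p ≠ 2) (hpq : p ∣ Fintype.card F ^ 2 - 1)

include hp2 hpq

theorem f4 [IsSimpleGroup ↥(chevF4.group F)] (ih : IH p (Nat.card ↥(chevF4.group F))) :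
    NB p ↥(chevF4.group F) := by
  rcases ge_or (F := F) hp2 hpq with hq | hq
  · exact nb_ge isTy_F4 tdF4 hp2 hq hpq ih
  · have h2 := two_eq_zero_of_card hq
    let cs : CoxeterSystem CoxeterMatrix.F₄ CoxeterMatrix.F₄.Group := CoxeterMatrix.F₄.toCoxeterSystem
    have : Finite CoxeterMatrix.F₄.Group := finite_W isTy_F4 cs
    have hchF : CharP F 2 := CharTwo.of_one_ne_zero_of_two_eq_zero one_ne_zero h2
    have hsys : Sys (rgd (K := F) isTy_F4 cs 2) (eg isTy_F4 F) := sys isTy_F4 twoOK_F4 cs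
    have h0 := perf_one eF4 hsys (j := 0) (j' := 1) (by decide +kernel) (by decide +kernel)
    have h1 := perf_one eF4 hsys (j := 1) (j' := 0) (by decide +kernel) (by decide +kernel)
    have h2' := perf_two eF4 hsys (j := 1) (j' := 2) (by decide +kernel) (by decide +kernel) h1
    refine nb_of_td isTy_F4 cs tdF4 hp2 hpq ih (GpExc.Levi.perf_of_simple eF4 (rgd (K := F) isTy_F4 cs 2)
      (fun j => Cfsg.Agent.GpExc.Perf.n_mem eF4 hsys j) ?_)
    intro j
    fin_cases j
    · exact h0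
    · exact h1
    · exact h2'

theorem e6 [IsSimpleGroup ↥(chevE6.group F)] (ih : IH p (Nat.card ↥(chevE6.group F))) :
    NB p ↥(chevE6.group F) :=
  nb_lace isTy_E6 tdE6 twoOK_E6 (by decide +kernel) hp2 hpq ih

theorem e7 [IsSimpleGroup ↥(chevE7.group F)] (ih : IH p (Nat.card ↥(chevE7.group F))) :
    NB p ↥(chevE7.group F) :=
  nb_lace isTy_E7 tdE7 twoOK_E7 (by (delta Cfsg.Agent.ChevalleyStructure.CoxeterGeomTypes.cartanOf; rewrite [Cfsg.Agent.ChevFast.E7.cartan]; decide +kernel)) hp2 hpq ih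

theorem e8 [IsSimpleGroup ↥(chevE8.group F)] (ih : IH p (Nat.card ↥(chevE8.group F))) :
    NB p ↥(chevE8.group F) :=
  nb_lace isTy_E8 tdE8 twoOK_E8 (by (delta Cfsg.Agent.ChevalleyStructure.CoxeterGeomTypes.cartanOf; rewrite [Cfsg.Agent.ChevFast.E8.cartan]; decide +kernel)) hp2 hpq ih

end F

section S

variable {p : ℕ} [Fact p.Prime] (h2 : p ≠ 2) (S : Type) [Group S] [Finite S] [IsSimpleGroup S]
  {F : Type} [Field F] [Fintype F] (hp : p ∣ Fintype.card F ^ 2 - 1)
  (ih : IH p (Nat.card S))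

include h2 hp ih

/-- transport to an isomorphic group -/
theorem transp {D : ChevalleyDatum} (e : Nonempty (S ≃* ↥(D.group F)))
    (h : ∀ [IsSimpleGroup ↥(D.group F)], IH p (Nat.card ↥(D.group F)) → NB p ↥(D.group F)) : NB p S := by
  obtain ⟨e⟩ := e
  have : Nontrivial ↥(D.group F) := e.symm.toEquiv.nontrivial
  have hs : IsSimpleGroup ↥(D.group F) := IsSimpleGroup.isSimpleGroup_of_surjective e.toMonoidHom e.surjective
  exact H7.NBp.NB.iso e.symm (h (by rwa [← Nat.card_congr e.toEquiv]))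

theorem nb_f4_tor (e : Nonempty (S ≃* ↥(chevF4.group F))) : NB p S :=
  transp h2 S hp ih e fun ih => f4 h2 hp ih

theorem nb_e6_tor (e : Nonempty (S ≃* ↥(chevE6.group F))) : NB p S :=
  transp h2 S hp ih e fun ih => e6 h2 hp ih

theorem nb_e7_tor (e : Nonempty (S ≃* ↥(chevE7.group F))) : NB p S :=
  transp h2 S hp ih e fun ih => e7 h2 hp ih

theorem nb_e8_tor (e : Nonempty (S ≃* ↥(chevE8.group F))) : NB p S :=
  transp h2 S hp ih e fun ih => e8 h2 hp ih

end S

end Cfsg.Agent.H486.NB.Rows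
end

private theorem dce_8612c2251821 : _root_.True := by
  try have : _root_.True := by simp only [_root_.Cfsg.Agent.H486.NB.SL.dg.eq_1]
  exact _root_.True.intro
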